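import Cfsg.Agent.H509.WeakBlock_m3
import Cfsg.Agent.LThreeMB.Quo
import Cfsg.Agent.H322.Eng.CoThirteen_m3
import Cfsg.Agent.H834.T3SporA
import Cfsg.Agent.H232.SporD
import Cfsg.Agent.H109.NrCo
import Cfsg.Agent.H415.M5.Syl
import Cfsg.Agent.BpSevenCo.Conj
import Cfsg.Agent.H820.SevenL32
import Cfsg.Agent.ConwayFacts.AutCo1
import Cfsg.Agent.H686.Four.Co1
import Cfsg.Agent.MFiveHN.Inst
import Cfsg.Agent.FastGrp
import Cfsg.Agent.Prune
set_option linter.all false

section
prune_inst 0x7ffffefbfff9ffffffff7e7ffffddfffffecffffefdff9fbfffdfbdfffffeb7fefe5fbaf6fecdaffdef6e2bc38f87b53fffffeffef6ffc7ffffdfff45ffbff9fffffbd3d71f7bd3ecfff6ffffbf37fdf7f3fffffffffffffffffffffffffffffffffffffffff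

-- part: H898/WkTrans
section
prune_inst 0x180000000000000000010000600000000000000000010000000100000000101000204000000000000000000000000000000000000000000028000000000000000000000002080c00000000000000000000000000000000000000000
set_option linter.all false
open scoped Cfsg.Agent.FastGrp

-- part: H898/WkGen
section
/-!
# Tools for the facts `O_2(C(w)) = 1` (helper898, for helper509's rows of S4095 at the prime 2)

* `exists_V` : if `O_2(C) ≠ 1`, `p ^ a ∣ |C|` and no involution of `C` has a centralizer of order divisible by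
  `p ^ (b + 1)`, there is a normal elementary abelian subgroup of order `2 ^ n`, `p ^ (a - b) ∣ 2 ^ n - 1`;
* `pCore_of_XX` : `O_2(C(s)) = 1` from `O_2(C(s) / ⟨s⟩) = 1`, `s` of odd order;
* `pCore_of_simple` : simple groups of order divisible by 3;
* `four_mul_dvd` : `4 |C(w)|` divides `|G|` for `w` of order 5 conjugate to its square.
-/

set_option autoImplicit false

namespace Cfsg.Agent.H898.WkGen

open Subgroup Cfsg
open Cfsg.Agent.LThreeMB (XX Zx)

theorem dvd_card_of_orbits {M X : Type*} [Group M] [MulAction M X] [Finite X] {m : ℕ}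
    (h : ∀ x : X, m ∣ (MulAction.stabilizer M x).index) : m ∣ Nat.card X := by
  classical
  have := Fintype.ofFinite (Quotient (MulAction.orbitRel M X))
  rw [Nat.card_congr (MulAction.selfEquivSigmaOrbits M X), Nat.card_sigma]
  refine Finset.dvd_sum fun ω _ => ?_
  have h1 := h ω.out
  rwa [MulAction.index_stabilizer, ← Nat.card_coe_set_eq] at h1

theorem pow_dvd_of_mul {p a b s i : ℕ} (hp : p.Prime) (hs0 : s ≠ 0) (h : p ^ a ∣ s * i) (hs : ¬ p ^ (b + 1) ∣ s) :
    p ^ (a - b) ∣ i := by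
  obtain ⟨k, s', hs', rfl⟩ := Nat.exists_eq_pow_mul_and_not_dvd hs0 p hp.ne_one
  have hk : k ≤ b := by
    by_contra hcon
    exact hs ((pow_dvd_pow p (by omega : b + 1 ≤ k)).trans (dvd_mul_right _ _))
  by_cases hak : a ≤ k
  · have h0 : a - b = 0 := by omega
    rw [h0, pow_zero]
    exact one_dvd _
  · have h1 : p ^ k * p ^ (a - k) ∣ p ^ k * (s' * i) := by
      rw [← pow_add, Nat.add_sub_cancel' (by omega), ← mul_assoc]
      exact h
    have h2 : p ^ (a - k) ∣ s' * i := Nat.dvd_of_mul_dvd_mul_left (pow_pos hp.pos k) h1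
    have h3 : (p ^ (a - k)).Coprime s' := Nat.Coprime.pow_left _ ((Nat.Prime.coprime_iff_not_dvd hp).2 hs')
    exact (pow_dvd_pow p (by omega : a - b ≤ a - k)).trans (h3.dvd_of_dvd_mul_left h2)

/-- the orbits of `C` on `V \ {1}` -/
theorem dvd_card_sub_one {C : Type*} [Group C] [Finite C] {V : Subgroup C} (hV : V.Normal) {m : ℕ}
    (h : ∀ v ∈ V, v ≠ 1 → m ∣ (centralizer ({v} : Set C)).index) : m ∣ Nat.card V - 1 := by
  classical
  let X := {v : C // v ∈ V ∧ v ≠ 1}
  let _ : MulAction C X :=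
    { smul := fun c v => ⟨c * v.1 * c⁻¹, hV.conj_mem _ v.2.1 c, fun h => v.2.2 (by rwa [conj_eq_one_iff] at h)⟩
      one_smul := fun v => Subtype.ext (by
        change 1 * v.1 * 1⁻¹ = v.1
        group)
      mul_smul := fun a b v => Subtype.ext (by
        change (a * b) * v.1 * (a * b)⁻¹ = a * (b * v.1 * b⁻¹) * a⁻¹
        group) }
  have hsm : ∀ (c : C) (v : X), ((c • v : X) : C) = c * v.1 * c⁻¹ := fun _ _ => rfl
  have h1 : m ∣ Nat.card X := by
    refine dvd_card_of_orbits (M := C) fun v => ?_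
    have h2 : MulAction.stabilizer C v = centralizer ({v.1} : Set C) := by
      ext c
      rw [MulAction.mem_stabilizer_iff, mem_centralizer_singleton_iff]
      constructor
      · intro h3
        have h4 := congrArg Subtype.val h3
        rw [hsm, mul_inv_eq_iff_eq_mul] at h4
        exact h4
      · intro h3
        apply Subtype.ext
        rw [hsm, h3, mul_inv_cancel_right]
    rw [h2]
    exact h v.1 v.2.1 v.2.2
  have h2 : Nat.card X = Nat.card V - 1 := by
    have h3 : Nat.card {v : V // v ≠ 1} = Nat.card V - 1 := by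
      have := Fintype.ofFinite V
      rw [Nat.card_eq_fintype_card, Nat.card_eq_fintype_card, Fintype.card_subtype_compl, Fintype.card_subtype_eq]
    rw [← h3]
    refine Nat.card_congr
      { toFun := fun v => ⟨⟨v.1, v.2.1⟩, fun h => v.2.2 (congrArg Subtype.val h)⟩
        invFun := fun v => ⟨v.1.1, v.1.2, fun h => v.2 (Subtype.ext h)⟩
        left_inv := fun _ => rfl
        right_inv := fun _ => rfl }
  rwa [h2] at h1

/-- **The counting lemma.** -/
theorem exists_V {C : Type*} [Group C] [Finite C] (hR : pCore 2 C ≠ ⊥) :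
    ∃ (V : Subgroup C) (n : ℕ), V.Normal ∧ V ≤ pCore 2 C ∧ 1 ≤ n ∧ Nat.card V = 2 ^ n ∧
      (∀ v ∈ V, v * v = 1) ∧
      (∀ u ∈ V, ∀ v ∈ V, u * v = v * u) ∧
      ∀ {p a b : ℕ}, p.Prime → p ^ a ∣ Nat.card C →
        (∀ t : C, orderOf t = 2 → ¬ p ^ (b + 1) ∣ Nat.card (centralizer ({t} : Set C))) → p ^ (a - b) ∣ 2 ^ n - 1 := by
  classical
  have h2 : Fact (Nat.Prime 2) := ⟨Nat.prime_two⟩
  have hRn : (pCore 2 C).Normal := Lib.Cores.pCore_normal (G := C) 2
  have hR2 : IsPGroup 2 (pCore 2 C) := Lib.Cores.pCore_isPGroup (G := C) 2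
  set R := pCore 2 C with hRdef
  -- `V`
  let V : Subgroup C :=
    { carrier := {v | v ∈ R ∧ (∀ r ∈ R, v * r = r * v) ∧ v * v = 1}
      one_mem' := ⟨R.one_mem, fun r _ => by rw [one_mul, mul_one], one_mul 1⟩
      mul_mem' := by
        rintro u v ⟨hu, hu1, hu2⟩ ⟨hv, hv1, hv2⟩
        refine ⟨R.mul_mem hu hv, fun r hr => ?_, ?_⟩
        · rw [mul_assoc, hv1 r hr, ← mul_assoc, hu1 r hr, mul_assoc]
        · calc (u * v) * (u * v) = u * (v * u) * v := by group
            _ = u * (u * v) * v := by rw [hv1 u hu]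
            _ = (u * u) * (v * v) := by group
            _ = 1 := by rw [hu2, hv2, one_mul]
      inv_mem' := by
        rintro u ⟨hu, hu1, hu2⟩
        have h3 : u⁻¹ = u := inv_eq_of_mul_eq_one_left hu2
        rw [h3]
        exact ⟨hu, hu1, hu2⟩ }
  have hmem : ∀ v, v ∈ V ↔ v ∈ R ∧ (∀ r ∈ R, v * r = r * v) ∧ v * v = 1 := fun _ => Iff.rfl
  have hVn : V.Normal := by
    refine ⟨fun v hv c => ?_⟩
    obtain ⟨hv0, hv1, hv2⟩ := (hmem v).1 hv
    refine (hmem _).2 ⟨hRn.conj_mem v hv0 c, fun r hr => ?_, ?_⟩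
    · have h3 : c⁻¹ * r * c ∈ R := by
        have := hRn.conj_mem r hr c⁻¹
        rwa [inv_inv] at this
      have h4 := hv1 _ h3
      calc c * v * c⁻¹ * r = c * (v * (c⁻¹ * r * c)) * c⁻¹ := by group
        _ = c * ((c⁻¹ * r * c) * v) * c⁻¹ := by rw [h4]
        _ = r * (c * v * c⁻¹) := by group
    · calc (c * v * c⁻¹) * (c * v * c⁻¹) = c * (v * v) * c⁻¹ := by group
        _ = 1 := by rw [hv2]; group
  have hVR : V ≤ R := fun v hv => ((hmem v).1 hv).1
  have hV2 : IsPGroup 2 V := hR2.to_le hVR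
  obtain ⟨n, hn⟩ := hV2.exists_card_eq
  have hVne : V ≠ ⊥ := by
    have hnt : Nontrivial R := (Subgroup.nontrivial_iff_ne_bot R).2 hR
    have h3 : Nontrivial (Subgroup.center R) := hR2.center_nontrivial
    have h4 : 2 ∣ Nat.card (Subgroup.center R) := by
      have h5 : IsPGroup 2 (Subgroup.center R) := hR2.to_subgroup _
      obtain ⟨k, hk⟩ := h5.exists_card_eq
      rw [hk]
      refine dvd_pow_self 2 ?_
      rintro rfl
      rw [pow_zero] at hk
      exact absurd hk (Finite.one_lt_card).ne'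
    obtain ⟨z, hz⟩ := exists_prime_orderOf_dvd_card' 2 h4
    intro h5
    have h6 : ((z : R) : C) ∈ V := by
      refine (hmem _).2 ⟨(z : R).2, fun r hr => ?_, ?_⟩
      · have h7 := Subgroup.mem_center_iff.1 z.2 ⟨r, hr⟩
        exact (congrArg Subtype.val h7).symm
      · have h7 : z ^ 2 = 1 := by rw [← hz, pow_orderOf_eq_one]
        rw [pow_two] at h7
        exact congrArg (fun x : Subgroup.center R => ((x : R) : C)) h7
    rw [h5, mem_bot] at h6
    have h7 : z = 1 := Subtype.ext (Subtype.ext h6)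
    rw [h7, orderOf_one] at hz
    norm_num at hz
  refine ⟨V, n, hVn, hVR, ?_, hn, fun v hv => ((hmem v).1 hv).2.2, fun u hu v hv => ((hmem u).1 hu).2.1 v (hVR hv), ?_⟩
  · by_contra hcon
    have h3 : n = 0 := by omega
    rw [h3, pow_zero] at hn
    exact hVne (Subgroup.eq_bot_of_card_eq V hn)
  · intro p a b hp hC ht
    rw [← hn]
    refine dvd_card_sub_one hVn fun v hv hv1 => ?_
    have h3 : orderOf v = 2 := orderOf_eq_prime (by rw [pow_two]; exact ((hmem v).1 hv).2.2) hv1
    refine pow_dvd_of_mul hp Nat.card_pos.ne' ?_ (ht v h3)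
    rw [Subgroup.card_mul_index]
    exact hC

theorem pCore_le {C : Type*} [Group C] [Finite C] (h : ∀ N : Subgroup C, N.Normal → IsPGroup 2 N → N = ⊥) :
    pCore 2 C = ⊥ := h _ (Lib.Cores.pCore_normal (G := C) 2) (Lib.Cores.pCore_isPGroup (G := C) 2)

/-- `O_2(C(s)) = 1` if `C(s) / ⟨s⟩` has no normal 2-subgroup -/
theorem pCore_of_XX {G : Type*} [Group G] [Finite G] {s : G} (hs : Odd (orderOf s))
    (h : ∀ N : Subgroup (XX s), N.Normal → IsPGroup 2 N → N = ⊥) : pCore 2 ↥(centralizer ({s} : Set G)) = ⊥ := by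
  apply pCore_le
  intro N hN hN2
  let f : ↥(centralizer ({s} : Set G)) →* XX s := QuotientGroup.mk' (Zx s)
  have h1 := h (N.map f) (hN.map f (QuotientGroup.mk'_surjective _)) (hN2.map f)
  rw [eq_bot_iff]
  intro x hx
  have h2 : f x = 1 := by
    have h3 : f x ∈ N.map f := ⟨x, hx, rfl⟩
    rwa [h1, mem_bot] at h3
  have h3 : x ∈ Zx s := (QuotientGroup.eq_one_iff x).1 h2
  obtain ⟨k, hk⟩ := hN2 ⟨x, hx⟩
  have h4 : x ^ 2 ^ k = 1 := congrArg Subtype.val hk
  have h5 : orderOf x ∣ 2 ^ k := orderOf_dvd_of_pow_eq_one h4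
  have h6 : orderOf x ∣ orderOf s := by
    have h7 : orderOf (⟨x, h3⟩ : Zx s) ∣ Nat.card (Zx s) := orderOf_dvd_natCard _
    rw [Subgroup.orderOf_mk, Zx, Nat.card_zpowers] at h7
    have h8 : orderOf (LThreeMB.self s) = orderOf s := Subgroup.orderOf_mk _ _
    rwa [h8] at h7
  have h7 : Nat.Coprime (orderOf s) (2 ^ k) := (Nat.Coprime.pow_right k hs.coprime_two_right)
  have h8 := Nat.eq_one_of_dvd_coprimes h7 h6 h5
  rw [mem_bot]
  exact orderOf_eq_one_iff.1 h8

/-- simple groups of order divisible by 3 have no normal 2-subgroup -/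
theorem of_simple {X : Type*} [Group X] [Finite X] (hX : IsSimpleGroup X) (h3 : 3 ∣ Nat.card X) (N : Subgroup X)
    (hN : N.Normal) (hN2 : IsPGroup 2 N) : N = ⊥ := by
  rcases hN.eq_bot_or_eq_top with h | h
  · exact h
  · exfalso
    have h2 : IsPGroup 2 X := fun g => by
      obtain ⟨k, hk⟩ := hN2 ⟨g, by rw [h]; trivial⟩
      exact ⟨k, congrArg Subtype.val hk⟩
    have hf : Fact (Nat.Prime 3) := ⟨Nat.prime_three⟩
    obtain ⟨x, hx⟩ := exists_prime_orderOf_dvd_card' 3 h3
    obtain ⟨k, hk⟩ := h2 x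
    have h4 : orderOf x ∣ 2 ^ k := orderOf_dvd_of_pow_eq_one hk
    rw [hx] at h4
    have h5 := Nat.prime_three.dvd_of_dvd_pow h4
    norm_num at h5

/-- `4 |C(w)|` divides `|G|` if `w` of order 5 is conjugate to its square. -/
theorem four_mul_dvd {G : Type*} [Group G] [Finite G] {w : G} (hw : orderOf w = 5) (h : IsConj w (w ^ 2)) :
    4 * Nat.card (centralizer ({w} : Set G)) ∣ Nat.card G := by
  obtain ⟨g, hg⟩ := isConj_iff.1 h
  have hw5 : w ^ 5 = 1 := by rw [← hw, pow_orderOf_eq_one]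
  have hgN : g ∈ normalizer (zpowers w : Set G) := by
    rw [mem_normalizer_iff_map_conj_eq]
    have h1 : (zpowers w).map (MulAut.conj g : G →* G) = zpowers (w ^ 2) := by
      rw [MonoidHom.map_zpowers]
      exact congrArg zpowers hg
    rw [h1]
    apply le_antisymm
    · rw [zpowers_le]
      exact pow_mem (mem_zpowers w) 2
    · rw [zpowers_le]
      have h2 : (w ^ 2) ^ 3 = w := by
        rw [← pow_mul]
        calc w ^ (2 * 3) = w ^ 5 * w := by rw [← pow_succ]
          _ = w := by rw [hw5, one_mul]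
      have h3 : (w ^ 2) ^ 3 ∈ zpowers (w ^ 2) := pow_mem (mem_zpowers _) 3
      rwa [h2] at h3
  set φ := (zpowers w).normalizerMonoidHom with hφ
  have hk : φ.ker = (centralizer ({w} : Set G)).subgroupOf (normalizer (zpowers w : Set G)) := by
    rw [hφ, normalizerMonoidHom_ker, ← centralizer_closure ({w} : Set G), zpowers_eq_closure]
  have hle : centralizer ({w} : Set G) ≤ normalizer (zpowers w : Set G) := by
    intro c hc
    rw [mem_normalizer_iff_map_conj_eq]
    have h1 : (zpowers w).map (MulAut.conj c : G →* G) = zpowers (c * w * c⁻¹) := by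
      rw [MonoidHom.map_zpowers]
      rfl
    rw [h1, mem_centralizer_singleton_iff.1 hc, mul_inv_cancel_right]
  have hkc : Nat.card φ.ker = Nat.card (centralizer ({w} : Set G)) := by
    rw [hk]
    exact Nat.card_congr (subgroupOfEquivOfLe hle).toEquiv
  -- the powers of `g`
  have hpow : ∀ n : ℕ, g ^ n * w * (g ^ n)⁻¹ = w ^ 2 ^ n := by
    intro n
    induction n with
    | zero => rw [pow_zero, pow_zero, pow_one]; group
    | succ k ih =>
      rw [pow_succ' g k]
      calc g * g ^ k * w * (g * g ^ k)⁻¹ = g * (g ^ k * w * (g ^ k)⁻¹) * g⁻¹ := by group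
        _ = (g * w * g⁻¹) ^ 2 ^ k := by rw [ih, conj_pow]
        _ = w ^ 2 ^ (k + 1) := by rw [hg, ← pow_mul, pow_succ']
  let γ : normalizer (zpowers w : Set G) := ⟨g, hgN⟩
  have hker : ∀ n : ℕ, γ ^ n ∈ φ.ker → w ^ 2 ^ n = w := by
    intro n hn
    rw [hk, mem_subgroupOf, mem_centralizer_singleton_iff] at hn
    have h1 : g ^ n * w = w * g ^ n := hn
    rw [← hpow n, h1, mul_inv_cancel_right]
  have ho : orderOf (φ γ) = 4 := by
    have : Fact (Nat.Prime 2) := ⟨Nat.prime_two⟩
    refine orderOf_eq_prime_pow (p := 2) (n := 1) ?_ ?_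
    · intro h1
      rw [← map_pow, ← MonoidHom.mem_ker] at h1
      have h2 := hker _ h1
      have h3 : w ^ 3 = 1 := by
        have h4 : w ^ 3 * w = w := by
          rw [← pow_succ]
          exact h2
        exact mul_right_cancel (h4.trans (one_mul w).symm)
      have h4 := orderOf_dvd_of_pow_eq_one h3
      rw [hw] at h4
      norm_num at h4
    · rw [← map_pow, ← MonoidHom.mem_ker, hk, mem_subgroupOf, mem_centralizer_singleton_iff]
      change g ^ 4 * w = w * g ^ 4
      rw [← mul_inv_eq_iff_eq_mul, hpow 4]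
      calc w ^ 2 ^ 4 = (w ^ 5) ^ 3 * w := by
            rw [← pow_mul, ← pow_succ]
            norm_num
        _ = w := by rw [hw5, one_pow, one_mul]
  have h4 : 4 ∣ Nat.card φ.range := by
    rw [← ho]
    have h5 := orderOf_dvd_natCard (⟨φ γ, ⟨γ, rfl⟩⟩ : φ.range)
    rwa [← Subgroup.orderOf_coe] at h5
  have h5 : Nat.card φ.range * Nat.card φ.ker = Nat.card (normalizer (zpowers w : Set G)) := by
    rw [← Subgroup.card_mul_index φ.ker, Subgroup.index_ker, mul_comm]
  rw [← hkc]
  exact ((mul_dvd_mul_right h4 _).trans (dvd_of_eq h5)).trans (card_subgroup_dvd_card _)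
end Cfsg.Agent.H898.WkGen
end

-- part: H898/WkTrans
section
/-!
# Transfer of the facts along isomorphisms (helper898, for helper509's rows of S4095 at the prime 2)
-/

set_option autoImplicit false

namespace Cfsg.Agent.H898.WkTrans

open Subgroup Cfsg
open Cfsg.Agent.H509.Weak

universe u v

/-- the centralizers of `y` and `e y` are isomorphic -/
noncomputable def centEquiv' {L K : Type*} [Group L] [Group K] (e : L ≃* K) (y : L) :
    ↥(centralizer ({y} : Set L)) ≃* ↥(centralizer ({e y} : Set K)) :=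
  (e.subgroupMap (centralizer ({y} : Set L))).trans (MulEquiv.subgroupCongr (by
    ext g
    rw [mem_centralizer_singleton_iff]
    constructor
    · rintro ⟨s, hs, rfl⟩
      have h1 := mem_centralizer_singleton_iff.1 hs
      change e s * e y = e y * e s
      rw [← map_mul, ← map_mul, h1]
    · intro h
      refine ⟨e.symm g, ?_, e.apply_symm_apply g⟩
      change e.symm g ∈ centralizer ({y} : Set L)
      rw [mem_centralizer_singleton_iff]
      apply e.injective
      rw [map_mul, map_mul, e.apply_symm_apply]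
      exact h))

theorem factA_congr {L : Type u} {K : Type v} [Group L] [Group K] (e : L ≃* K) (h : FactA K) : FactA L := by
  obtain ⟨Q, hQ, hall⟩ := h
  have hc : Nat.card (Q.comap e.toMonoidHom) = Nat.card Q :=
    Nat.card_congr (e.toEquiv.subtypeEquiv fun x => Iff.rfl)
  refine ⟨Q.comap e.toMonoidHom, by rw [hc]; exact hQ, fun w hw hw2 => ?_⟩
  have ho : orderOf (e w) = orderOf w := MulEquiv.orderOf_eq e w
  rcases hall (e w) (by rw [ho]; exact hw) (by rw [ho]; exact hw2) with h1 | h1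
  · exact Or.inl (pCore_equiv (centEquiv' e w).symm h1)
  · right
    rw [hc, Nat.card_congr (centEquiv' e w).toEquiv]
    exact h1

open Cfsg.Agent.H652.Four Cfsg.Agent.Blocks Cfsg.Agent.Blocks.LocalRing

/-- `FactB` from one element of the model -/
theorem factB_of_equiv {L : Type u} {K : Type v} [Group L] [Group K] [Finite L] [Finite K] (e : L ≃* K) {x : K} (hx : x ≠ 1)
    (hO : pCore 2 ↥(centralizer ({x} : Set K)) = ⊥) (hinv : ∀ β : MulAut L, IsConj (e.symm x) (β (e.symm x)))
    (hN : ∀ M : Ideal AlgInt, IsPModular 2 M → NN M (cl x)) : FactB L := by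
  refine FactB.of_cl (y := e.symm x) ?_ ?_ hinv fun M hM => NN.of_equiv e ?_
  · intro h
    apply hx
    rw [← e.apply_symm_apply x, h, map_one]
  · have h1 : pCore 2 ↥(centralizer ({e (e.symm x)} : Set K)) = ⊥ := by
      rw [e.apply_symm_apply]
      exact hO
    exact pCore_equiv (centEquiv' e (e.symm x)).symm h1
  · rw [e.apply_symm_apply]
    exact hN M hM

end Cfsg.Agent.H898.WkTrans
end
end

-- part: H898/WkCo1
section
prune_inst 0x10400040000000000000000000000120000000000000002002000000080000800008003010020000040000400a800000000000000000002000800040040000040020c00024010001000040c800000000000000000000000000000000000000000000000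
set_option linter.all false
open scoped Cfsg.Agent.FastGrp

/-!
# S4095 at the prime 2: the row `Co₁` (helper898)

* `inv_dvd` : the orders of the centralizers of the involutions;
* `factA` : `O_2(C(w)) = 1` or `|C(w)| < 3 ^ 9` for `w` of odd prime order;
* `core_seven` : `O_2(C(y)) = 1` for the elements of order seven of `G₂(4)`;
* `row`.
-/

set_option autoImplicit false

namespace Cfsg.Agent.H898.WkCo1

open Subgroup Cfsg
open Cfsg.Agent.H509.Weak
open Cfsg.Agent.LThreeMB (fr XX Zx)
open Cfsg.Spor (Co1)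
open Cfsg.Agent.H898.WkGen
open Cfsg.Agent.H55.CoOneBd (card_co1 card_cent_XX card_cent_conj exists_lift card_cent_dvd)
open Cfsg.Agent.KFacts.Co1D4

theorem fin : Finite Co1 := H55.CoOneBd.finite_co1

/-- the order of the centralizer of an involution of class 2B -/
theorem dvd_w : Nat.card ↥(centralizer ({TwoB.w} : Set Co1)) ∣ 8 * 251596800 := by
  have := fin
  have S := Main.setup
  have h1 : Nat.card ↥(centralizer ({TwoB.w} : Set Co1)) =
      Nat.card S.ZL * (S.ZL.subgroupOf (centralizer ({TwoB.w} : Set Co1))).index := by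
    rw [← Subgroup.card_mul_index (S.ZL.subgroupOf (centralizer ({TwoB.w} : Set Co1)))]
    congr 1
    exact Nat.card_congr (subgroupOfEquivOfLe S.ZL_le).toEquiv
  rw [h1, S.card_ZL, GTwo.card_L]
  rcases S.index_cases with h | h
  · rw [h]; norm_num
  · rw [h]

/-- **The centralizers of the involutions.** -/
theorem inv_dvd {t : Co1} (ht : orderOf t = 2) :
    Nat.card ↥(centralizer ({t} : Set Co1)) ∣ 2 ^ 22 * 3 ^ 5 * 5 ^ 2 * 7 * 11 * 13 * 23 := by
  have := fin
  rcases H834.TThree.inv3 ht with h | ⟨d, hd, h⟩ | h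
  · rw [← card_cent_conj h, H232.Row.card_cent_z]
    norm_num
  · rw [← card_cent_conj h]
    refine ((card_dvd_of_le (CoOneType.CoOneE.centralizer_dodecad_le d hd)).trans (card_map_dvd _ _)).trans ?_
    rw [Cfsg.Agent.S0399.card_N]
    norm_num
  · rw [← card_cent_conj h]
    exact dvd_w.trans (by norm_num)

theorem not_dvd_inv {p b : ℕ} (h : ¬ p ^ (b + 1) ∣ 2 ^ 22 * 3 ^ 5 * 5 ^ 2 * 7 * 11 * 13 * 23) {w : Co1}
    (t : ↥(centralizer ({w} : Set Co1))) (ht : orderOf t = 2) :
    ¬ p ^ (b + 1) ∣ Nat.card (centralizer ({t} : Set ↥(centralizer ({w} : Set Co1)))) := by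
  have := fin
  intro h1
  apply h
  refine h1.trans (dvd_trans ?_ (inv_dvd (t := (t : Co1)) (by rw [Subgroup.orderOf_coe, ht])))
  let f : centralizer ({t} : Set ↥(centralizer ({w} : Set Co1))) →* ↥(centralizer ({(t : Co1)} : Set Co1)) :=
    ((centralizer ({w} : Set Co1)).subtype.comp (Subgroup.subtype _)).codRestrict _ (by
      intro c
      have h1 := mem_centralizer_singleton_iff.1 c.2
      rw [mem_centralizer_singleton_iff]
      exact congrArg Subtype.val h1)
  refine Subgroup.card_dvd_of_injective f ?_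
  intro a b hab
  exact Subtype.ext (Subtype.ext (congrArg (fun x : ↥(centralizer ({(t : Co1)} : Set Co1)) => (x : Co1)) hab))

/-! ### Conjugation -/

theorem pCore_of_conj {G : Type*} [Group G] {x y : G} (h : IsConj x y)
    (hx : pCore 2 ↥(centralizer ({x} : Set G)) = ⊥) : pCore 2 ↥(centralizer ({y} : Set G)) = ⊥ := by
  obtain ⟨g, rfl⟩ := isConj_iff.1 h
  exact pCore_equiv (centEquiv (MulAut.conj g) x) hx

/-- `2 |C_{Co1}(a)|` divides `|C_{Co0}(a)|` for `a` of odd order -/
theorem two_mul_dvd {a : Co0} {n : ℕ} (hn : Odd n) (ha : a ^ n = 1) :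
    2 * Nat.card ↥(centralizer ({(QuotientGroup.mk a : Co1)} : Set Co1)) ∣
      Nat.card ↥(centralizer ({a} : Set Co0)) := by
  have hfin := CoOneType.FrameFix.finite_co0
  let f : ↥(centralizer ({a} : Set Co0)) →* ↥(centralizer ({(QuotientGroup.mk a : Co1)} : Set Co1)) :=
    ((QuotientGroup.mk' (center Co0)).comp (Subgroup.subtype _)).codRestrict _ (by
      intro c
      have h1 := mem_centralizer_singleton_iff.1 c.2
      rw [mem_centralizer_singleton_iff]
      change (QuotientGroup.mk (c : Co0) : Co1) * QuotientGroup.mk a = QuotientGroup.mk a * QuotientGroup.mk (c : Co0)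
      rw [← QuotientGroup.mk_mul, ← QuotientGroup.mk_mul, h1])
  have hs : Function.Surjective f := by
    rintro ⟨c, hc⟩
    obtain ⟨b, rfl⟩ := QuotientGroup.mk_surjective c
    have h1 := mem_centralizer_singleton_iff.1 hc
    exact ⟨⟨b, mem_centralizer_singleton_iff.2 (LThreeBX.NoSeven.comm_of_mk hn ha h1.symm).symm⟩, rfl⟩
  have h1 : Nat.card f.range = Nat.card ↥(centralizer ({(QuotientGroup.mk a : Co1)} : Set Co1)) := by
    rw [MonoidHom.range_eq_top.2 hs, Subgroup.card_top]
  have h2 : Nat.card f.ker * Nat.card f.range = Nat.card ↥(centralizer ({a} : Set Co0)) := by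
    rw [← Subgroup.card_mul_index f.ker, Subgroup.index_ker]
  have h3 : 2 ∣ Nat.card f.ker := by
    have h4 : Nat.card (center Co0) = 2 := Cfsg.Agent.S0398.result
    rw [← h4]
    let i : center Co0 →* f.ker :=
      { toFun := fun c => ⟨⟨c, mem_centralizer_singleton_iff.2 (Subgroup.mem_center_iff.1 c.2 a).symm⟩, by
          rw [MonoidHom.mem_ker]
          apply Subtype.ext
          exact (QuotientGroup.eq_one_iff (c : Co0)).2 c.2⟩
        map_one' := rfl
        map_mul' := fun _ _ => rfl }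
    refine Subgroup.card_dvd_of_injective i ?_
    intro x y hxy
    apply Subtype.ext
    exact congrArg (fun z : f.ker => ((z : ↥(centralizer ({a} : Set Co0))) : Co0)) hxy
  rw [← h2, ← h1]
  exact mul_dvd_mul_right h3 _

/-! ### Order three -/

theorem zero_three {s : Co1} (hs : orderOf s = 3) (h : fr s = 1) : pCore 2 ↥(centralizer ({s} : Set Co1)) = ⊥ := by
  have := fin
  obtain ⟨e⟩ := LThreeMB.CoOneFin.coOne.suz s hs h
  have h1 : IsSimpleGroup Cfsg.Spor.Suz := Cfsg.Agent.S1694.result.1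
  have h2 : Nat.card (XX s) = 448345497600 := (Nat.card_congr e.toEquiv).trans Cfsg.Agent.S1694.result.2
  have h3 : Finite (XX s) := Quotient.finite _
  exact pCore_of_XX (by rw [hs]; decide) (of_simple e.isSimpleGroup (by rw [h2]; norm_num))

theorem eight_three {s : Co1} (hs : orderOf s = 3) (h : fr s = 2 ^ 8) :
    pCore 2 ↥(centralizer ({s} : Set Co1)) = ⊥ := by
  have := fin
  obtain ⟨t, ht, hft, ⟨e⟩, -⟩ := LThreeMB.CEight.nine
  obtain ⟨g, hg⟩ := LThreeCo1.Ranks.eight t s ht hs hft h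
  refine pCore_of_conj (isConj_iff.2 ⟨g, hg⟩) ?_
  have h9 := LThreeCo1Twelve.Elim.card_alt 9 (by norm_num)
  have h9' : Nat.card (XX t) = 181440 := by
    rw [Nat.card_congr e.toEquiv]
    have : (9 : ℕ).factorial = 362880 := by decide
    omega
  have h1 : IsSimpleGroup (alternatingGroup (Fin 9)) := alternatingGroup.isSimpleGroup (by rw [Nat.card_fin]; norm_num)
  have h3 : Finite (XX t) := Quotient.finite _
  exact pCore_of_XX (by rw [ht]; decide) (of_simple e.isSimpleGroup (by rw [h9']; norm_num))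

theorem twelve_three {s : Co1} (hs : orderOf s = 3) (h : fr s = 2 ^ 12) :
    pCore 2 ↥(centralizer ({s} : Set Co1)) = ⊥ ∧ ¬ 3 ^ 9 ∣ Nat.card ↥(centralizer ({s} : Set Co1)) := by
  have := fin
  obtain ⟨t, ht, hft, hct, -⟩ := LThreeMB.CoOneFin.coOne.psu
  obtain ⟨g, hg⟩ := LThreeCo1.Ranks.twelve t s ht hs hft h
  obtain ⟨E, M, iE, iM, K, iK, iK', hEM, hE, hM, hK, ⟨e⟩⟩ := hct.chain
  have h1 : Nat.card ↥M = Nat.card (↥M ⧸ E.subgroupOf M) * Nat.card ↥(E.subgroupOf M) :=
    Subgroup.card_eq_card_quotient_mul_card_subgroup _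
  rw [Nat.card_congr e.toEquiv, LThreeB.card_psu hK,
    Nat.card_congr (Subgroup.subgroupOfEquivOfLe hEM).toEquiv, hE] at h1
  have h2 := M.card_mul_index
  rw [h1, hM] at h2
  constructor
  · exact pCore_of_conj (isConj_iff.2 ⟨g, hg⟩) (pCore_of_XX (by rw [ht]; decide) hct.o2)
  · rw [← card_cent_conj (isConj_iff.2 ⟨g, hg⟩), card_cent_XX, ht, ← h2]
    norm_num

/-- the elements of order three of fixed rank 6 centralize a Sylow 3-subgroup -/
theorem dvd_six {s : Co1} (hs : orderOf s = 3) (h : fr s = 2 ^ 6) :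
    3 ^ 9 ∣ Nat.card ↥(centralizer ({s} : Set Co1)) := by
  have := fin
  have h3 : Fact (Nat.Prime 3) := ⟨Nat.prime_three⟩
  obtain ⟨P⟩ : Nonempty (Sylow 3 Co1) := inferInstance
  have hP : 3 ^ 9 ∣ Nat.card P := P.pow_dvd_card_of_pow_dvd_card (by rw [card_co1]; norm_num)
  have hPn : Nontrivial P := by
    rw [← Finite.one_lt_card_iff_nontrivial]
    exact lt_of_lt_of_le (by norm_num) (Nat.le_of_dvd Nat.card_pos hP)
  have hZ : Nontrivial (Subgroup.center P) := P.2.center_nontrivial
  have hZ3 : 3 ∣ Nat.card (Subgroup.center P) := by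
    obtain ⟨k, hk⟩ := (P.2.to_subgroup (Subgroup.center P)).exists_card_eq
    rw [hk]
    refine dvd_pow_self 3 ?_
    rintro rfl
    rw [pow_zero] at hk
    exact absurd hk (Finite.one_lt_card).ne'
  obtain ⟨z, hz⟩ := exists_prime_orderOf_dvd_card' 3 hZ3
  set x : Co1 := ((z : P) : Co1) with hx
  have hxo : orderOf x = 3 := by rw [hx, Subgroup.orderOf_coe, Subgroup.orderOf_coe, hz]
  have hPx : (P : Subgroup Co1) ≤ centralizer ({x} : Set Co1) := by
    intro g hg
    rw [mem_centralizer_singleton_iff]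
    exact congrArg Subtype.val (Subgroup.mem_center_iff.1 z.2 ⟨g, hg⟩)
  have hd : 3 ^ 9 ∣ Nat.card ↥(centralizer ({x} : Set Co1)) := hP.trans (card_dvd_of_le hPx)
  have hfx : fr x = 2 ^ 6 := by
    rcases LThreeCo1.Ranks.ranks x hxo with h1 | h1 | h1 | h1
    · exfalso
      rw [H55.CoOneBd.card_zero hxo h1] at hd
      norm_num at hd
    · exact h1
    · exfalso
      obtain ⟨t, ht, hft, ⟨e⟩, -⟩ := LThreeMB.CEight.nine
      obtain ⟨g, hg⟩ := LThreeCo1.Ranks.eight x t hxo ht h1 hft
      have h9 := LThreeCo1Twelve.Elim.card_alt 9 (by norm_num)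
      have h9' : Nat.card (XX t) = 181440 := by
        rw [Nat.card_congr e.toEquiv]
        have : (9 : ℕ).factorial = 362880 := by decide
        omega
      rw [card_cent_conj (isConj_iff.2 ⟨g, hg⟩), card_cent_XX, ht, h9'] at hd
      norm_num at hd
    · exact absurd hd (twelve_three hxo h1).2
  obtain ⟨g, hg⟩ := LThreeMB.CoOneFin.coOne.six s x hs hxo h hfx
  rw [card_cent_conj (isConj_iff.2 ⟨g, hg⟩)]
  exact hd

theorem six_three {s : Co1} (hs : orderOf s = 3) (h : fr s = 2 ^ 6) :
    pCore 2 ↥(centralizer ({s} : Set Co1)) = ⊥ := by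
  have := fin
  by_contra hR
  obtain ⟨V, n, -, -, hn1, hVc, -, -, hdvd⟩ := exists_V hR
  have h1 := hdvd (p := 3) (a := 9) (b := 5) Nat.prime_three (dvd_six hs h) (not_dvd_inv (by norm_num))
  have h2 : 2 ^ n ∣ 2 ^ 21 := by
    have h3 : 2 ^ n ∣ Nat.card Co1 := by
      rw [← hVc]
      exact (card_subgroup_dvd_card V).trans (card_subgroup_dvd_card _)
    rw [card_co1] at h3
    have h4 : (4157776806543360000 : ℕ) = 2 ^ 21 * 1982582476875 := by norm_num
    rw [h4] at h3
    exact (Nat.Coprime.pow_left n (by norm_num)).dvd_of_dvd_mul_right h3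
  have h3 : n ≤ 21 := (Nat.pow_dvd_pow_iff_le_right (by norm_num)).1 h2
  clear h2 hdvd hVc
  interval_cases n <;> norm_num at h1

/-- **Order three.** -/
theorem three {s : Co1} (hs : orderOf s = 3) : pCore 2 ↥(centralizer ({s} : Set Co1)) = ⊥ := by
  rcases LThreeCo1.Ranks.ranks s hs with h | h | h | h
  · exact zero_three hs h
  · exact six_three hs h
  · exact eight_three hs h
  · exact (twelve_three hs h).1

/-! ### Order five -/

theorem zero_five {s : Co1} (hs : orderOf s = 5) (h : fr s = 1) : pCore 2 ↥(centralizer ({s} : Set Co1)) = ⊥ := by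
  have := fin
  obtain ⟨e⟩ := MFive.JTwo.isoJ2 hs h
  have h1 : IsSimpleGroup Cfsg.Spor.J2 := Cfsg.Agent.S1620.result.1
  have h2 : Nat.card (XX s) = 604800 := (Nat.card_congr e.toEquiv).trans Cfsg.Agent.S1619.result.2.2.2
  have h3 : Finite (XX s) := Quotient.finite _
  exact pCore_of_XX (by rw [hs]; decide) (of_simple e.isSimpleGroup (by rw [h2]; norm_num))

theorem eight_five {s : Co1} (hs : orderOf s = 5) (h : fr s = 2 ^ 8) :
    pCore 2 ↥(centralizer ({s} : Set Co1)) = ⊥ := by
  have := fin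
  have h1 : IsConj MFiveHN.Cent.xx s :=
    CoFive.Ranks.isConj_of_fr MFiveHN.Cent.order_x hs (MFiveHN.Inst.fr_xx.trans h.symm)
  refine pCore_of_conj h1 (pCore_of_XX (by rw [MFiveHN.Cent.order_x]; decide) fun N hN hN2 => ?_)
  rcases MFiveHN.Cent.quo.2 N hN with h2 | h2
  · exact h2
  · exfalso
    have h3 : Finite (XX MFiveHN.Cent.xx) := Quotient.finite _
    obtain ⟨k, hk⟩ := hN2.exists_card_eq
    rw [hk] at h2
    have h4 : 3 ∣ 2 ^ k := (by norm_num : 3 ∣ 3600).trans h2
    have h5 := Nat.prime_three.dvd_of_dvd_pow h4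
    norm_num at h5

theorem four_five {s : Co1} (hs : orderOf s = 5) (h : fr s = 2 ^ 4) :
    pCore 2 ↥(centralizer ({s} : Set Co1)) = ⊥ := by
  have := fin
  obtain ⟨S, hS, -, hSs, -⟩ := H415.M5.sylow_five hs h
  have hd : 5 ^ 4 ∣ Nat.card ↥(centralizer ({s} : Set Co1)) := by
    rw [← hS]
    exact card_dvd_of_le fun y hy => mem_centralizer_singleton_iff.2 (hSs y hy)
  by_contra hR
  obtain ⟨V, n, -, -, hn1, hVc, -, -, hdvd⟩ := exists_V hR
  have h1 := hdvd (p := 5) (a := 4) (b := 2) Nat.prime_five hd (not_dvd_inv (by norm_num))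
  have h2 : 2 ^ (n + 2) ∣ 2 ^ 21 := by
    have h3 : 2 ^ (n + 2) ∣ Nat.card Co1 := by
      have h5 := four_mul_dvd hs (CoFive.Ranks.isConj_pow_co1 hs (n := 2) (by norm_num)).symm
      refine dvd_trans ?_ h5
      rw [pow_add, ← hVc, mul_comm]
      exact mul_dvd_mul (by norm_num) (card_subgroup_dvd_card V)
    rw [card_co1] at h3
    have h4 : (4157776806543360000 : ℕ) = 2 ^ 21 * 1982582476875 := by norm_num
    rw [h4] at h3
    exact (Nat.Coprime.pow_left _ (by norm_num)).dvd_of_dvd_mul_right h3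
  have h3 : n + 2 ≤ 21 := (Nat.pow_dvd_pow_iff_le_right (by norm_num)).1 h2
  have h4 : n ≤ 19 := by omega
  clear h2 hdvd hVc h3
  interval_cases n <;> norm_num at h1

/-- **Order five.** -/
theorem five {s : Co1} (hs : orderOf s = 5) : pCore 2 ↥(centralizer ({s} : Set Co1)) = ⊥ := by
  rcases CoFive.Ranks.ranks s hs with h | h | h
  · exact zero_five hs h
  · exact four_five hs h
  · exact eight_five hs h

/-! ### Order seven -/

theorem seven_cases {s : Co1} (hs : orderOf s = 7) : (fr s = 1 ∧ Nat.card ↥(centralizer ({s} : Set Co1)) ∣ 17640) ∨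
    (IsConj CpAutMSeven.RanksH.s0 s ∧ Nat.card ↥(centralizer ({s} : Set Co1)) = 1176) := by
  have := fin
  rcases CpAutMSeven.RanksH.main hs with h | ⟨h, -⟩
  · left
    refine ⟨h, ?_⟩
    obtain ⟨a, rfl, ha, hao⟩ := exists_lift (by norm_num) (by norm_num) hs
    have h1 := (two_mul_dvd (by decide) ha).trans (H813.CoSevenCard.card_dvd hao (LThreeBX.NoSeven.free_of_fr h))
    have h2 : (35280 : ℕ) = 2 * 17640 := by norm_num
    rw [h2] at h1
    exact Nat.dvd_of_mul_dvd_mul_left (by norm_num) h1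
  · right
    refine ⟨h.symm, ?_⟩
    have h0 : orderOf CpAutMSeven.RanksH.s0 = 7 := by
      obtain ⟨g, hg⟩ := isConj_iff.1 h
      rw [← hs, ← hg]
      exact MulEquiv.orderOf_eq (MulAut.conj g) s
    rw [card_cent_conj h, card_cent_XX, h0, H820.SevenL32.card_XX]

/-! ### The first fact -/

theorem factA : FactA Co1 := by
  have := fin
  have h3 : Fact (Nat.Prime 3) := ⟨Nat.prime_three⟩
  obtain ⟨P⟩ : Nonempty (Sylow 3 Co1) := inferInstance
  have hP : 3 ^ 9 ∣ Nat.card P := P.pow_dvd_card_of_pow_dvd_card (by rw [card_co1]; norm_num)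
  have hP' : 19683 ≤ Nat.card P := (by norm_num : 19683 ≤ 3 ^ 9).trans (Nat.le_of_dvd Nat.card_pos hP)
  refine ⟨P, ?_, fun w hr h2 => ?_⟩
  · obtain ⟨k, hk⟩ := P.2.exists_card_eq
    rw [hk]
    exact Odd.pow (by decide)
  have h1 : orderOf w ∣ 4157776806543360000 := card_co1 ▸ orderOf_dvd_natCard w
  have h4 : (4157776806543360000 : ℕ) = 2 ^ 21 * (3 ^ 9 * (5 ^ 4 * (7 ^ 2 * (11 * (13 * 23))))) := by norm_num
  rw [h4] at h1
  have key : ∀ {q n : ℕ}, q.Prime → orderOf w ∣ q ^ n → orderOf w = q := fun hq h =>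
    (Nat.prime_dvd_prime_iff_eq hr hq).1 (hr.dvd_of_dvd_pow h)
  rcases (hr.dvd_mul).1 h1 with h | h
  · exact absurd (key (by norm_num) h) h2
  rcases (hr.dvd_mul).1 h with h | h
  · exact Or.inl (three (key (by norm_num) h))
  rcases (hr.dvd_mul).1 h with h | h
  · exact Or.inl (five (key (by norm_num) h))
  right
  refine lt_of_lt_of_le ?_ hP'
  rcases (hr.dvd_mul).1 h with h | h
  · rcases seven_cases (key (by norm_num) h) with ⟨-, h5⟩ | ⟨-, h5⟩
    · have := Nat.le_of_dvd (by norm_num) h5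
      omega
    · omega
  rcases (hr.dvd_mul).1 h with h | h
  · have hs := (Nat.prime_dvd_prime_iff_eq hr (by norm_num)).1 h
    obtain ⟨g, hg⟩ := H800.ME.CoFacts.conj_s hs
    rw [← card_cent_conj (isConj_iff.2 ⟨g, hg⟩), H800.ME.CoFacts.card_cent]
    norm_num
  rcases (hr.dvd_mul).1 h with h | h
  · have h5 := H109.Nr.Co.card_cent_co1 ((Nat.prime_dvd_prime_iff_eq hr (by norm_num)).1 h)
    have := Nat.le_of_dvd (by norm_num) h5
    omega
  · have hs := (Nat.prime_dvd_prime_iff_eq hr (by norm_num)).1 h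
    obtain ⟨a, rfl, ha, hao⟩ := exists_lift (by norm_num) (by norm_num) hs
    have hfin := CoOneType.FrameFix.finite_co0
    have h1 := H604.Cop.Conway.card_cent_co0 hao
    have h2 := Nat.le_of_dvd Nat.card_pos (card_cent_dvd (by decide) ha)
    omega

end Cfsg.Agent.H898.WkCo1
end
end
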