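/-
The diagonal automorphism of order three of `twistedE6 K 2`, `|K| = 4`, is not inner: its matrix is not in the group.
-/
import Cfsg.Agent.TwoESix.Iso
import Cfsg.Agent.S1032
import Cfsg.Agent.S1028
import Cfsg.Agent.S1033
import Cfsg.Agent.S1034
import Cfsg.Agent.S1036
import Cfsg.Agent.S1049
set_option linter.all false

-- part: H898/Diag
section
set_option autoImplicit false

namespace Cfsg.Agent.H898.Diag

open Cfsg.Lie Cfsg.Agent.ChevalleyStructure.SparseEng Cfsg.Agent.TwoESix.Coded Cfsg.Agent.TwoESix.Data
open Cfsg.Agent.TwoESix.Base Cfsg.Agent.TwoESix.Iso Cfsg.Agent.Lib.F2MatGroup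
open Cfsg.Agent.ChevalleyStructure.TorusConj
open Cfsg.Agent.Lib

/-- the packed matrix of the diagonal automorphism -/
def mD : ℕ := 0x80000000000000000001000000000000000000010000000000000000000c000000000000000000040000000000000000003000000000000000000010000000000000000000c0000000000000000000400000000000000000030000000000000000000200000000000000000004000000000000000000040000000000000000003000000000000000000010000000000000000000c000000000000000000080000000000000000001000000000000000000010000000000000000000c000000000000000000080000000000000000001000000000000000000010000000000000000000c0000000000000000000800000000000000000010000000000000000000200000000000000000004000000000000000000080000000000000000001000000000000000000010000000000000000000c000000000000000000040000000000000000003000000000000000000010000000000000000000c000000000000000000040000000000000000003000000000000000000010000000000000000000c000000000000000000040000000000000000003000000000000000000010000000000000000000c00000000000000000004000000000000000000300000000000000000002000000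000000000000040000000000000000000800000000000000000010000000000000000000200000000000000000004000000000000000000080000000000000000001000000000000000000020000000000000000000400000000000000000008000000000000000000100000000000000000002000000000000000000040000000000000000000800000000000000000010000000000000000000200000000000000000004000000000000000000080000000000000000001000000000000000000020000000000000000000400000000000000000008000000000000000000100000000000000000002000000000000000000040000000000000000000800000000000000000010000000000000000000200000000000000000004000000000000000000080000000000000000001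

/-- the packed matrix of its inverse -/
def mDi : ℕ := 0x8000000000000000000100000000000000000003000000000000000000080000000000000000000c000000000000000000200000000000000000003000000000000000000080000000000000000000c000000000000000000200000000000000000002000000000000000000040000000000000000000c0000000000000000002000000000000000000030000000000000000000800000000000000000008000000000000000000100000000000000000003000000000000000000080000000000000000000800000000000000000010000000000000000000300000000000000000008000000000000000000080000000000000000001000000000000000000020000000000000000000400000000000000000008000000000000000000100000000000000000003000000000000000000080000000000000000000c000000000000000000200000000000000000003000000000000000000080000000000000000000c000000000000000000200000000000000000003000000000000000000080000000000000000000c000000000000000000200000000000000000003000000000000000000080000000000000000000c000000000000000000200000000000000000002000000000000000000040000000000000000000800000000000000000010000000000000000000200000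000000000000004000000000000000000080000000000000000001000000000000000000020000000000000000000400000000000000000008000000000000000000100000000000000000002000000000000000000040000000000000000000800000000000000000010000000000000000000200000000000000000004000000000000000000080000000000000000001000000000000000000020000000000000000000400000000000000000008000000000000000000100000000000000000002000000000000000000040000000000000000000800000000000000000010000000000000000000200000000000000000004000000000000000000080000000000000000001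

theorem chk1 : Nat.beq (F2Mat.mul 78 mD mDi) (F2Mat.one 78) = true := by decide +kernel
theorem chk2 : Nat.beq (F2Mat.mul 78 mDi mD) (F2Mat.one 78) = true := by decide +kernel
theorem chk3 : Nat.beq (F2Mat.mul 78 mD mD) mDi = true := by decide +kernel

/-- the diagonal automorphism -/
def Dg : GL (Fin 78) (ZMod 2) := F2MatGroup.unit 78 mD mDi chk1 chk2

theorem codes_Dg : Codes 78 Dg mD := rfl

theorem codes_Dg_inv : Codes 78 Dg⁻¹ mDi := codes_Dg.inv chk1

theorem Dg_sq : Dg * Dg = Dg⁻¹ := (codes_Dg.mul codes_Dg).eq codes_Dg_inv chk3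

theorem Dg_pow : Dg ^ 3 = 1 := by
  rw [pow_succ, pow_two, Dg_sq, inv_mul_cancel]

/-- the permutation of the sixteen generators -/
def pp : Fin 16 → Fin 16 := ![0, 1, 2, 3, 5, 6, 4, 9, 7, 8, 10, 11, 12, 13, 14, 15]

theorem pp_check : ((List.finRange 16).all fun k =>
    Nat.beq (F2Mat.mul 78 mD (Ms.getD k 0)) (F2Mat.mul 78 (Ms.getD (pp k) 0) mD)) = true := by decide +kernel

theorem Dg_gM (k : Fin 16) : Dg * gM k * Dg⁻¹ = gM (pp k) := by
  have h1 := List.all_eq_true.1 pp_check k (List.mem_finRange k)
  have h2 : Dg * gM k = gM (pp k) * Dg := (codes_Dg.mul (codes_gM k)).eq ((codes_gM (pp k)).mul codes_Dg) h1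
  rw [h2, mul_inv_cancel_right]

theorem conj_mem_closure {G : Type*} [Group G] {S : Set G} {D : G} (h : ∀ s ∈ S, D * s * D⁻¹ ∈ Subgroup.closure S)
    {e : G} (he : e ∈ Subgroup.closure S) : D * e * D⁻¹ ∈ Subgroup.closure S := by
  have h1 : Subgroup.closure S ≤ (Subgroup.closure S).comap (MulAut.conj D).toMonoidHom := by
    rw [Subgroup.closure_le]
    intro s hs
    exact h s hs
  exact h1 he

theorem Dg_conj_mem {e : GL (Fin 78) (ZMod 2)} (he : e ∈ Gam) : Dg * e * Dg⁻¹ ∈ Gam := by
  refine conj_mem_closure ?_ he
  rintro _ ⟨k, rfl⟩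
  rw [Dg_gM]
  exact Subgroup.subset_closure ⟨_, rfl⟩

/-! ### The image over the field with four elements -/

/-- exponents of `w` on the basis vectors of the adjoint module -/
def el : List ℕ := [0, 0, 0, 0, 0, 0, 0, 0, 0, 0, 2, 0, 0, 2, 0, 2, 2, 0, 2, 2, 2, 2, 1, 1, 0, 1, 0, 0, 1, 0, 0, 0, 1, 0, 0, 0, 1, 0, 0, 1, 0, 1, 2, 0, 2, 0, 0, 2, 0, 0, 0, 2, 0, 0, 0, 2, 0, 0, 2, 0, 2, 2, 1, 1, 1, 1, 0, 1, 1, 0, 1, 0, 0, 1, 0, 0, 0, 0]

/-- the additive function on the roots -/
def mm (s : ℕ) : ℤ := Cfsg.Agent.ChevalleyStructure.RootVec.rt chevE6 s 0 +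
  2 * Cfsg.Agent.ChevalleyStructure.RootVec.rt chevE6 s 5

theorem mm_additive : IsAdditive chevE6 mm := by
  refine ⟨fun j => if j = 0 then 1 else if j = 5 then 2 else 0, fun s _ => ?_⟩
  unfold mm
  simp [chevE6, Finset.sum_range_succ]

theorem el_check : ((List.range 72).all fun s => decide ((mm s - (el.getD (6 + s) 0 : ℤ)) % 3 = 0)) = true := by
  decide +kernel

theorem el_zero : ((List.range 6).all fun s => Nat.beq (el.getD s 0) 0) = true := by decide +kernel

theorem dig_check : ((List.range 78).all fun i => (List.range 78).all fun k =>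
    Nat.beq (dig (colX mD bs i) k) (mul4 (pow4 2 (el.getD k 0)) (dig (bs.getD i 0) k))) = true := by
  decide +kernel

section

variable {K : Type*} [Field K] (h2 : (2 : K) = 0) (w : K) (hw : w * w = w + 1)

theorem dec_inl (D : ChevalleyDatum) (v : ℕ) (i : Fin D.rank) : dec D w v (Sum.inl i) = cv w (dig v i) := by
  unfold dec
  rw [Finset.sum_apply, Finset.sum_eq_single (i : ℕ)]
  · simp [bvec]
  · intro k _ hk
    have : ¬ (i : ℕ) = k := fun h => hk h.symm
    simp [bvec, this]
  · intro h
    exact absurd (Finset.mem_range.2 (by have := i.2; omega)) h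

theorem dec_inr (D : ChevalleyDatum) (v : ℕ) (s : Fin D.nroots) :
    dec D w v (Sum.inr s) = cv w (dig v (D.rank + s)) := by
  unfold dec
  rw [Finset.sum_apply, Finset.sum_eq_single (D.rank + s : ℕ)]
  · simp [bvec]
  · intro k _ hk
    have : ¬ D.rank + (s : ℕ) = k := fun h => hk h.symm
    simp [bvec, this]
  · intro h
    exact absurd (Finset.mem_range.2 (by have := s.2; omega)) h

include h2 hw in
theorem w_cube : w ^ 3 = 1 := by
  linear_combination (w + 1) * hw + w * h2

include h2 hw in
theorem w_ne : w ≠ 0 := by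
  rintro rfl
  have := w_cube h2 0 hw
  simp at this

include h2 hw in
theorem w_ne_one : w ≠ 1 := by
  rintro rfl
  have h3 : (1 : K) = 0 := by linear_combination -hw - 0 * h2
  exact one_ne_zero h3

include h2 hw in
theorem torus_mul_P : torus chevE6 K mm w * P w = P w * (F2Mat.toMat 78 mD).map (cst h2) := by
  ext row i
  have h3 := congrFun (P_mul h2 w mD i) row
  rw [h3, torus_def, Matrix.diagonal_mul]
  have h4 := List.all_eq_true.1 dig_check i (List.mem_range.2 i.2)
  rcases row with j | s
  · rw [dec_inl, P, dec_inl]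
    have hj : (j : ℕ) < 6 := j.2
    have h5 := Nat.eq_of_beq_eq_true (List.all_eq_true.1 h4 j (List.mem_range.2 (by omega)))
    have h6 := Nat.eq_of_beq_eq_true (List.all_eq_true.1 el_zero j (List.mem_range.2 hj))
    rw [h5, h6, cv_mul4 h2 w hw (pow4_lt (by norm_num) _) (dig_lt _ _), cv_pow4 h2 w hw (by norm_num)]
    simp
  · rw [dec_inr, P, dec_inr]
    have hs : (s : ℕ) < 72 := s.2
    have h5 := Nat.eq_of_beq_eq_true (List.all_eq_true.1 h4 (chevE6.rank + s) (List.mem_range.2 (by
      have : chevE6.rank = 6 := rfl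
      omega)))
    have h6 := of_decide_eq_true (List.all_eq_true.1 el_check s (List.mem_range.2 hs))
    rw [h5, cv_mul4 h2 w hw (pow4_lt (by norm_num) _) (dig_lt _ _), cv_pow4 h2 w hw (by norm_num), cv_two,
      Sum.elim_inr]
    congr 1
    obtain ⟨y, hy⟩ : ∃ y : ℤ, mm s = (el.getD (6 + s) 0 : ℤ) + 3 * y := ⟨(mm s - (el.getD (6 + s) 0 : ℤ)) / 3, by omega⟩
    have hw3 : w ^ (3 : ℤ) = 1 := by exact_mod_cast w_cube h2 w hw
    rw [hy, zpow_add₀ (w_ne h2 w hw), zpow_mul, hw3, one_zpow, mul_one, zpow_natCast]
    rfl

include hw in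
theorem phi_Dg (Q : Matrix (Fin 78) chevE6.Idx K) (hPQ : P w * Q = 1) (hQP : Q * P w = 1) :
    ((phi h2 w Q hPQ hQP Dg : GL chevE6.Idx K) : Matrix chevE6.Idx chevE6.Idx K) = torus chevE6 K mm w := by
  have h3 : ((phi h2 w Q hPQ hQP Dg : GL chevE6.Idx K) : Matrix chevE6.Idx chevE6.Idx K) =
      P w * (F2Mat.toMat 78 mD).map (cst h2) * Q := rfl
  rw [h3, ← torus_mul_P h2 w hw, Matrix.mul_assoc, hPQ, Matrix.mul_one]

end

end Cfsg.Agent.H898.Diag
end

-- part: H898/NotIn
section
set_option autoImplicit false

namespace Cfsg.Agent.H898.NotIn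

open Cfsg.Lie Cfsg.Agent.TwoESix.Base Cfsg.Agent.TwoESix.Iso Cfsg.Agent.H898.Diag
open Cfsg.Agent.ChevalleyStructure.TorusConj Cfsg.Agent.ChevalleyStructure.Elts
open Cfsg.Agent.ChevalleyStructure.TorusCount
open scoped Pointwise

theorem memL : chevE6 ∈ [chevG2, chevB2, chevD4, chevF4, chevE6, chevE7, chevE8] := by simp

section

variable {K : Type*} [Field K]

theorem twisted_le_group (q : ℕ) : twistedE6 K q ≤ chevE6.group K := by
  unfold twistedE6 ChevalleyDatum.genSubgroup
  rw [Subgroup.closure_le]
  rintro g ⟨l, -, hg⟩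
  have h1 : g = wordG memL l := (eq_wordG_iff memL g l).2 hg
  rw [h1]
  exact wordG_mem_group memL l

theorem conj_x {g : GL chevE6.Idx K} {w : K} (hw : w ≠ 0)
    (hg : (g : Matrix chevE6.Idx chevE6.Idx K) = torus chevE6 K mm w) {s : GL chevE6.Idx K} {r : ℕ} {t : K}
    (hr : r < chevE6.nroots) (hs : (s : Matrix chevE6.Idx chevE6.Idx K) = chevE6.x K r t) :
    ((g * s * g⁻¹ : GL chevE6.Idx K) : Matrix chevE6.Idx chevE6.Idx K) = chevE6.x K r (w ^ (mm r) * t) := by
  have h1 := torus_mul_x Cfsg.Agent.ChevalleyStructure.RootVecTab.checked_E6 mm_additive hw r t hr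
  rw [← hg, ← hs] at h1
  rw [Units.val_mul, Units.val_mul, h1, mul_assoc, ← Units.val_mul, mul_inv_cancel, Units.val_one, mul_one]

theorem conj_mem {g : GL chevE6.Idx K} {w : K} (hw : w ≠ 0)
    (hg : (g : Matrix chevE6.Idx chevE6.Idx K) = torus chevE6 K mm w) {s : GL chevE6.Idx K}
    (hs : s ∈ chevE6.unipotentRadical K ∅) : g * s * g⁻¹ ∈ chevE6.unipotentRadical K ∅ := by
  refine conj_mem_closure ?_ hs
  rintro s ⟨r, t, hr, hr2, hs⟩
  exact Subgroup.subset_closure ⟨r, _, hr, hr2, conj_x hw hg hr.1 hs⟩

theorem mem_normalizer {g : GL chevE6.Idx K} {w : K} (hw : w ≠ 0)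
    (hg : (g : Matrix chevE6.Idx chevE6.Idx K) = torus chevE6 K mm w) (hg3 : g ^ 3 = 1) :
    g ∈ Subgroup.normalizer (chevE6.unipotentRadical K ∅ : Set (GL chevE6.Idx K)) := by
  rw [Subgroup.mem_normalizer_iff]
  intro h
  refine ⟨conj_mem hw hg, fun h1 => ?_⟩
  have h2 := conj_mem hw hg (conj_mem hw hg h1)
  have h3 : g * (g * (g * h * g⁻¹) * g⁻¹) * g⁻¹ = g ^ 3 * h * (g ^ 3)⁻¹ := by
    rw [pow_succ, pow_two]
    simp only [mul_inv_rev, mul_assoc]
  rw [h3, hg3] at h2
  simpa using h2

theorem parabolic_empty : chevE6.parabolicSubgroup K ∅ = chevE6.borelSubgroup K := by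
  unfold ChevalleyDatum.parabolicSubgroup
  refine sup_eq_left.2 ?_
  rw [Subgroup.closure_le]
  rintro g ⟨j, hj, -⟩
  exact absurd hj (Set.notMem_empty j)

/-- a diagonal matrix which is unipotent is the identity -/
theorem eq_one_of_nilp {ι : Type*} [Fintype ι] [DecidableEq ι] {d : ι → K} {n : ℕ}
    (h : (Matrix.diagonal d - 1) ^ n = 0) : Matrix.diagonal d = 1 := by
  rw [← Matrix.diagonal_one, Matrix.diagonal_sub, Matrix.diagonal_pow] at h
  rw [← Matrix.diagonal_one]
  congr 1
  funext i
  have h1 := congrFun (congrFun h i) i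
  rw [Matrix.diagonal_apply_eq, Matrix.zero_apply, Pi.pow_apply] at h1
  by_contra hne
  exact pow_ne_zero n (sub_ne_zero.2 hne) h1

/-- the combination of columns divisible by three -/
theorem col_check : ∀ i : Fin chevE6.rank, col chevE6 (chevE6.simple 0) i + col chevE6 (chevE6.simple 4) i =
    3 * (![1, 0, -1, 0, 1, -1] : Fin 6 → ℤ) i + (col chevE6 (chevE6.simple 2) i + col chevE6 (chevE6.simple 5) i) := by
  decide +kernel

theorem mm_simple : mm (chevE6.simple 0) = 1 ∧ mm (chevE6.simple 2) = 0 ∧ mm (chevE6.simple 4) = 0 ∧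
    mm (chevE6.simple 5) = 2 := by decide +kernel

theorem simple_lt : chevE6.simple 0 < chevE6.nroots ∧ chevE6.simple 2 < chevE6.nroots ∧
    chevE6.simple 4 < chevE6.nroots ∧ chevE6.simple 5 < chevE6.nroots := by decide +kernel

end

/-- the diagonal automorphism is not inner -/
theorem Dg_not_mem (K : Type*) [Field K] [Fintype K] (hK : Fintype.card K = 4) : Dg ∉ Gam := by
  classical
  intro hmem
  obtain ⟨h2, w, hw, hall⟩ := exists_w K hK
  obtain ⟨Q, hPQ, hQP⟩ := exists_Q h2 w hw
  have hw0 := w_ne h2 w hw
  obtain ⟨g, hgdef⟩ : ∃ g, g = phi h2 w Q hPQ hQP Dg := ⟨_, rfl⟩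
  have hg : (g : Matrix chevE6.Idx chevE6.Idx K) = torus chevE6 K mm w := by
    rw [hgdef]; exact phi_Dg h2 w hw Q hPQ hQP
  have hgT : g ∈ twistedE6 K 2 := by
    rw [← map_Gam h2 w Q hPQ hQP hw hall, hgdef]
    exact Subgroup.mem_map_of_mem _ hmem
  have hgG := twisted_le_group 2 hgT
  have hg3 : g ^ 3 = 1 := by rw [hgdef, ← map_pow, Dg_pow, map_one]
  have h5 : g ∈ chevE6.borelSubgroup K := by
    rw [← parabolic_empty, ← Cfsg.Agent.S1049.result chevE6 memL ∅ (by simp)]
    exact ⟨mem_normalizer hw0 hg hg3, hgG⟩
  have h6 := (Cfsg.Agent.S1036.result (F := K) chevE6 memL).1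
  have h7 : g ∈ ((chevE6.posUnipotent K : Set (GL chevE6.Idx K)) * (chevE6.diagonalSubgroup K : Set (GL chevE6.Idx K))) := by
    rw [← Subgroup.coe_mul_of_right_le_normalizer_left _ _ h6]
    exact h5
  obtain ⟨u, hu, h, hh, huh⟩ := Set.mem_mul.1 h7
  have hA : Cfsg.Agent.ChevalleyStructure.TorusRange.SimpleDiag chevE6 K :=
    fun i hi c hc => Cfsg.Agent.S1033.result chevE6 memL i hi c hc
  have hH := Cfsg.Agent.ChevalleyStructure.TorusRange.diagonalSubgroup_eq_range hA
    (fun i hi => Cfsg.Agent.ChevalleyStructure.RootVec.simple_lt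
      Cfsg.Agent.ChevalleyStructure.RootVecTab.checked_E6 hi)
    (fun g hg => Cfsg.Agent.S1034.result chevE6 memL g hg)
  have hh' : h ∈ (torusHom chevE6 K).range := by rw [← hH]; exact hh
  obtain ⟨c, rfl⟩ := hh'
  have hu2 : u = g * torusHom chevE6 K c⁻¹ := by rw [map_inv, ← huh, mul_inv_cancel_right]
  have hud : (u : Matrix chevE6.Idx chevE6.Idx K) = 1 := by
    have h8 := Cfsg.Agent.S1028.result chevE6 memL u hu
    have h9 : (u : Matrix chevE6.Idx chevE6.Idx K) = Matrix.diagonal (fun x : chevE6.Idx =>
        Sum.elim (fun _ => (1 : K)) (fun s : Fin chevE6.nroots => w ^ (mm s.val)) x *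
        Sum.elim (fun _ => (1 : K)) (fun s : Fin chevE6.nroots => ((mon c⁻¹ (col chevE6 s) : Kˣ) : K)) x) := by
      rw [hu2, Units.val_mul, hg, torus_def, coe_torusHom, Matrix.diagonal_mul_diagonal]
    rw [h9] at h8 ⊢
    exact eq_one_of_nilp h8
  have hu1 : u = 1 := Units.ext hud
  rw [hu1, one_mul] at huh
  have key : ∀ s (hs : s < chevE6.nroots), ((mon c (col chevE6 s) : Kˣ) : K) = w ^ (mm s) := by
    intro s hs
    have h8 := congrArg (fun g : GL chevE6.Idx K => (g : Matrix chevE6.Idx chevE6.Idx K)
      (Sum.inr ⟨s, hs⟩) (Sum.inr ⟨s, hs⟩)) huh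
    simp only [coe_torusHom, hg, torus_def, Matrix.diagonal_apply_eq, Sum.elim_inr] at h8
    exact h8
  obtain ⟨m0, m2, m4, m5⟩ := mm_simple
  obtain ⟨l0, l2, l4, l5⟩ := simple_lt
  have k0 := key _ l0
  have k2 := key _ l2
  have k4 := key _ l4
  have k5 := key _ l5
  have h8 : mon c (col chevE6 (chevE6.simple 0)) * mon c (col chevE6 (chevE6.simple 4)) =
      mon c (fun i => (![1, 0, -1, 0, 1, -1] : Fin 6 → ℤ) i) ^ (3 : ℤ) *
        (mon c (col chevE6 (chevE6.simple 2)) * mon c (col chevE6 (chevE6.simple 5))) := by
    rw [← mon_smul, ← mon_add, ← mon_add, ← mon_add]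
    congr 1
    funext i
    exact col_check i
  have h9 : ∀ z : Kˣ, z ^ (3 : ℤ) = 1 := by
    intro z
    have h10 : Fintype.card Kˣ = 3 := by rw [Fintype.card_units, hK]
    have h11 := pow_card_eq_one (x := z)
    rw [h10] at h11
    exact_mod_cast h11
  rw [h9, one_mul] at h8
  have h10 := congrArg (fun z : Kˣ => (z : K)) h8
  simp only [Units.val_mul] at h10
  rw [k0, k2, k4, k5, m0, m2, m4, m5] at h10
  have h11 : w = w * w := by
    have e1 : w ^ (2 : ℤ) = w * w := by rw [zpow_ofNat, pow_two]
    rw [zpow_one, zpow_zero, mul_one, one_mul, e1] at h10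
    exact h10
  have h12 : w = 1 := by
    have := mul_left_cancel₀ hw0 (show w * w = w * 1 by rw [mul_one]; exact h11.symm)
    exact this
  exact w_ne_one h2 w hw h12

end Cfsg.Agent.H898.NotIn
end
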