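/-
Groups all of whose automorphisms have an inner square.
-/
import Mathlib
set_option linter.all false
set_option autoImplicit false

namespace Cfsg.Agent.H898.SqInner

/-- all squares of automorphisms are inner -/
def AutSq (X : Type*) [Group X] : Prop := ∀ α : MulAut X, ∃ x : X, α * α = MulAut.conj x

theorem congr {X Y : Type*} [Group X] [Group Y] (e : X ≃* Y) (h : AutSq Y) : AutSq X := by
  intro α
  obtain ⟨y, hy⟩ := h (MulAut.congr e α)
  refine ⟨e.symm y, ?_⟩
  ext x
  have h1 := congrArg (fun β : MulAut Y => e.symm (β (e x))) hy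
  simp only [MulAut.mul_apply, MulAut.conj_apply, map_mul, map_inv, MulEquiv.symm_apply_apply] at h1
  rw [MulAut.mul_apply, MulAut.conj_apply, ← h1]
  simp [MulAut.congr]

theorem of_mul_outer {X : Type*} [Group X]
    (h : ∀ α β : MulAut X, (∀ x, α ≠ MulAut.conj x) → (∀ x, β ≠ MulAut.conj x) → ∃ x, α * β = MulAut.conj x) :
    AutSq X := by
  intro α
  by_cases h1 : ∃ x, α = MulAut.conj x
  · obtain ⟨x, rfl⟩ := h1
    exact ⟨x * x, (map_mul _ _ _).symm⟩
  · push Not at h1
    exact h α α h1 h1

theorem of_card {X : Type*} [Group X] [Finite X] (hc : Subgroup.center X = ⊥)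
    (h : Nat.card (MulAut X) = 2 * Nat.card X) : AutSq X := by
  intro α
  have hk : (MulAut.conj : X →* MulAut X).ker = ⊥ := by
    rw [eq_bot_iff]
    intro x hx
    rw [MonoidHom.mem_ker] at hx
    rw [← hc, Subgroup.mem_center_iff]
    intro g
    have h1 := congrArg (fun β : MulAut X => β g) hx
    simp only [MulAut.conj_apply, MulAut.one_apply] at h1
    exact (mul_inv_eq_iff_eq_mul.1 h1).symm
  have hinj := (MonoidHom.ker_eq_bot_iff _).1 hk
  have h1 : Nat.card (MulAut.conj : X →* MulAut X).range = Nat.card X :=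
    (Nat.card_congr (MonoidHom.ofInjective hinj).toEquiv).symm
  have h2 := Subgroup.card_mul_index (MulAut.conj : X →* MulAut X).range
  have hpos : 0 < Nat.card X := Nat.card_pos
  rw [h1, h, mul_comm 2] at h2
  have h3 : (MulAut.conj : X →* MulAut X).range.index = 2 := Nat.eq_of_mul_eq_mul_left hpos h2
  obtain ⟨x, hx⟩ := Subgroup.mul_self_mem_of_index_two h3 α
  exact ⟨x, hx.symm⟩

end Cfsg.Agent.H898.SqInner
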